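import Groth.Agent.Lib.Helper55.GR.Final
import Mathlib.AlgebraicGeometry.Morphisms.Flat
import Mathlib.AlgebraicGeometry.Morphisms.FinitePresentation
import Mathlib.AlgebraicGeometry.Morphisms.FiniteType
import Mathlib.AlgebraicGeometry.Morphisms.QuasiCompact
import Mathlib.AlgebraicGeometry.Properties

set_option autoImplicit false
universe u

open AlgebraicGeometry CategoryTheory Limits TopologicalSpace

namespace Groth.Agent.Lib.Helper55.GR

section LemmaA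

variable {P : MorphismProperty Scheme.{u}}
  {Q : ∀ {R S : Type u} [CommRing R] [CommRing S], (R →+* S) → Prop} [HasRingHomProperty P Q]

theorem basicOpen_appLE_eq {X S : Scheme.{u}} (f : X ⟶ S) (V : S.Opens) (W : X.Opens)
    (e : W ≤ f ⁻¹ᵁ V) (r : Γ(S, V)) :
    X.basicOpen (f.appLE V W e r) = W ⊓ f ⁻¹ᵁ (S.basicOpen r) := by
  simp [Scheme.Hom.appLE, Scheme.basicOpen_res, Scheme.preimage_basicOpen]

theorem restrict_basicOpen_of_awayMap {X S : Scheme.{u}} (f : X ⟶ S) {V : S.Opens}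
    (hV : IsAffineOpen V) (r : Γ(S, V)) {ι : Type*} (W : ι → X.affineOpens)
    (e : ∀ i, (W i).1 ≤ f ⁻¹ᵁ V) (hcov : f ⁻¹ᵁ (S.basicOpen r) ≤ ⨆ i, (W i).1)
    (H : ∀ i, Q (Localization.awayMap (f.appLE V (W i).1 (e i)).hom r)) :
    P (f ∣_ S.basicOpen r) := by
  have hD : IsAffineOpen (S.basicOpen r) := hV.basicOpen r
  haveI : IsAffine (S.basicOpen r).toScheme := hD
  have hle : ∀ i, X.basicOpen (f.appLE V (W i).1 (e i) r) ≤ f ⁻¹ᵁ (S.basicOpen r) := by
    intro i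
    rw [basicOpen_appLE_eq]
    exact inf_le_right
  let U : ι → (f ⁻¹ᵁ (S.basicOpen r)).toScheme.affineOpens := fun i =>
    (affineOpensRestrict (f ⁻¹ᵁ (S.basicOpen r))).symm
      ⟨⟨X.basicOpen (f.appLE V (W i).1 (e i) r), (W i).2.basicOpen _⟩, hle i⟩
  have hU : ⨆ i, ((U i : (f ⁻¹ᵁ (S.basicOpen r)).toScheme.affineOpens) :
      (f ⁻¹ᵁ (S.basicOpen r)).toScheme.Opens) = ⊤ := by
    rw [eq_top_iff]
    rintro ⟨x, hx⟩ -
    have hx' : x ∈ ⨆ i, (W i).1 := hcov hx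
    rw [Opens.mem_iSup] at hx' ⊢
    obtain ⟨i, hi⟩ := hx'
    refine ⟨i, ?_⟩
    show x ∈ X.basicOpen (f.appLE V (W i).1 (e i) r)
    rw [basicOpen_appLE_eq]
    exact ⟨hi, hx⟩
  refine HasRingHomProperty.of_iSup_eq_top (P := P) U hU fun i => ?_
  rw [morphismRestrict_appLE]
  have himg := (affineOpensRestrict (f ⁻¹ᵁ (S.basicOpen r))).apply_symm_apply
    ⟨⟨X.basicOpen (f.appLE V (W i).1 (e i) r), (W i).2.basicOpen _⟩, hle i⟩
  have h₂ : (f ⁻¹ᵁ S.basicOpen r).ι ''ᵁ (U i).1 = X.basicOpen (f.appLE V (W i).1 (e i) r) :=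
    congr($(himg).1.1)
  refine (f.appLE_congr _ (Scheme.Opens.ι_image_top _) h₂ (fun f => Q f.hom)).2 ?_
  have := hV.isLocalization_basicOpen r
  have := (W i).2.isLocalization_basicOpen (f.appLE V (W i).1 (e i) r)
  rw [IsAffineOpen.appLE_eq_away_map f hV (W i).2 (e i) r, CommRingCat.hom_ofHom]
  exact ((HasRingHomProperty.isLocal_ringHomProperty P).respectsIso.isLocalization_away_iff
    ..).1 (H i)

end LemmaA

section LemmaB

variable {X S : Scheme.{u}} (f : X ⟶ S) [IsReduced S] [LocallyOfFiniteType f]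

theorem exists_good_finite {V : S.Opens} (hV : IsAffineOpen V) (s : Set X.affineOpens)
    (hs : s.Finite) (h : Γ(S, V)) (hh : h ≠ 0) :
    ∃ r : Γ(S, V), h * r ≠ 0 ∧ ∀ W ∈ s, ∀ (e : (W : X.affineOpens).1 ≤ f ⁻¹ᵁ V) (g' : Γ(S, V)),
      (Localization.awayMap (f.appLE V W.1 e).hom (h * r * g')).Flat ∧
      (Localization.awayMap (f.appLE V W.1 e).hom (h * r * g')).FinitePresentation := by
  induction s, hs using Set.Finite.induction_on with
  | empty => exact ⟨1, by rwa [mul_one], fun W hW => absurd hW (Set.notMem_empty W)⟩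
  | @insert W s hWs hs ih =>
    obtain ⟨r₁, hne1, h1⟩ := ih
    by_cases he : W.1 ≤ f ⁻¹ᵁ V
    · letI : Algebra Γ(S, V) Γ(X, W.1) := (f.appLE V W.1 he).hom.toAlgebra
      haveI : Algebra.FiniteType Γ(S, V) Γ(X, W.1) :=
        HasRingHomProperty.appLE (P := @LocallyOfFiniteType) f inferInstance ⟨V, hV⟩ W he
      obtain ⟨r₂, hne2, h2⟩ := exists_flat_fp_awayMap Γ(S, V) Γ(X, W.1) (h * r₁) hne1
      refine ⟨r₁ * r₂, by rwa [← mul_assoc], fun W' hW' e g' => ?_⟩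
      rcases hW' with rfl | hW'
      · have := h2 g'
        rw [← mul_assoc]
        exact this
      · have := h1 W' hW' e (r₂ * g')
        have e' : h * (r₁ * r₂) * g' = h * r₁ * (r₂ * g') := by ring
        rw [e']
        exact this
    · refine ⟨r₁, hne1, fun W' hW' e g' => ?_⟩
      rcases hW' with rfl | hW'
      · exact absurd e he
      · exact h1 W' hW' e g'

variable [QuasiCompact f]

theorem exists_basicOpen_flat_lfp {V : S.Opens} (hV : IsAffineOpen V) (h : Γ(S, V))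
    (hh : h ≠ 0) : ∃ r : Γ(S, V), h * r ≠ 0 ∧ Flat (f ∣_ S.basicOpen (h * r)) ∧
      LocallyOfFinitePresentation (f ∣_ S.basicOpen (h * r)) := by
  have hc : IsCompact (f ⁻¹ᵁ V : Set X) := f.isCompact_preimage hV.isCompact
  obtain ⟨s, hs, hsU⟩ :=
    isCompact_and_isOpen_iff_finite_and_eq_biUnion_affineOpens.1 ⟨hc, (f ⁻¹ᵁ V).isOpen⟩
  have hle : ∀ W ∈ s, (W : X.affineOpens).1 ≤ f ⁻¹ᵁ V := by
    intro W hW x hx
    have : x ∈ (f ⁻¹ᵁ V : Set X) := by
      rw [hsU]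
      exact Set.mem_biUnion hW hx
    exact this
  obtain ⟨r, hne, hr⟩ := exists_good_finite f hV s hs h hh
  have hcov : f ⁻¹ᵁ (S.basicOpen (h * r)) ≤ ⨆ i : s, (i.1 : X.affineOpens).1 := by
    intro x hx
    have hx' : x ∈ (f ⁻¹ᵁ V : Set X) := by
      have : S.basicOpen (h * r) ≤ V := S.basicOpen_le _
      exact this hx
    rw [hsU] at hx'
    obtain ⟨W, hW, hxW⟩ := Set.mem_iUnion₂.1 hx'
    exact Opens.mem_iSup.2 ⟨⟨W, hW⟩, hxW⟩
  refine ⟨r, hne, ?_, ?_⟩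
  · refine restrict_basicOpen_of_awayMap (P := @Flat) f hV (h * r) (fun i : s => i.1)
      (fun i => hle i.1 i.2) hcov fun i => ?_
    have := (hr i.1 i.2 (hle i.1 i.2) 1).1
    rwa [mul_one] at this
  · refine restrict_basicOpen_of_awayMap (P := @LocallyOfFinitePresentation) f hV (h * r)
      (fun i : s => i.1) (fun i => hle i.1 i.2) hcov fun i => ?_
    have := (hr i.1 i.2 (hle i.1 i.2) 1).2
    rwa [mul_one] at this

end LemmaB

section Glue

theorem restrict_iSup {P : MorphismProperty Scheme.{u}} [IsZariskiLocalAtTarget P]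
    {X S : Scheme.{u}} (f : X ⟶ S) {ι : Type*} (D : ι → S.Opens) (H : ∀ i, P (f ∣_ D i)) :
    P (f ∣_ (⨆ i, D i)) := by
  set U : S.Opens := ⨆ i, D i with hUdef
  refine IsZariskiLocalAtTarget.of_iSup_eq_top (P := P) (fun i => U.ι ⁻¹ᵁ D i) ?_ fun i => ?_
  · rw [eq_top_iff]
    rintro ⟨x, hx⟩ -
    obtain ⟨i, hi⟩ := Opens.mem_iSup.1 hx
    exact Opens.mem_iSup.2 ⟨i, hi⟩
  · have hle : D i ≤ U := le_iSup D i
    have himg : U.ι ''ᵁ (U.ι ⁻¹ᵁ D i) = D i := by
      rw [Scheme.Hom.image_preimage_eq_opensRange_inf, Scheme.Opens.opensRange_ι]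
      exact inf_eq_right.2 hle
    refine (P.arrow_mk_iso_iff (morphismRestrictRestrict f U (U.ι ⁻¹ᵁ D i))).2 ?_
    exact (P.arrow_mk_iso_iff (morphismRestrictEq f himg)).2 (H i)

theorem generic_flatness_reduced {X S : Scheme.{u}} (f : X ⟶ S) [IsReduced S]
    [LocallyOfFiniteType f] [QuasiCompact f] :
    ∃ U : S.Opens, Dense (U : Set ↑S) ∧ Flat (f ∣_ U) ∧
      LocallyOfFinitePresentation (f ∣_ U) := by
  let ι := {D : S.Opens // Flat (f ∣_ D) ∧ LocallyOfFinitePresentation (f ∣_ D)}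
  refine ⟨⨆ i : ι, i.1, ?_, restrict_iSup (P := @Flat) f _ fun i => i.2.1,
    restrict_iSup (P := @LocallyOfFinitePresentation) f _ fun i => i.2.2⟩
  rw [dense_iff_inter_open]
  rintro O hO ⟨x, hx⟩
  obtain ⟨_, ⟨V, hV : IsAffineOpen V, rfl⟩, hxV, hVO⟩ :=
    (S.isBasis_affineOpens).exists_subset_of_mem_open hx hO
  have h1 : (1 : Γ(S, V)) ≠ 0 := by
    intro h10
    have hb : S.basicOpen (1 : Γ(S, V)) = ⊥ := by rw [h10]; exact (basicOpen_eq_bot_iff _).2 rfl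
    rw [S.basicOpen_of_isUnit isUnit_one] at hb
    rw [hb] at hxV
    exact hxV
  obtain ⟨r, hne, hflat, hlfp⟩ := exists_basicOpen_flat_lfp f hV 1 h1
  have hbot : S.basicOpen (1 * r) ≠ ⊥ := fun hb => hne ((basicOpen_eq_bot_iff _).1 hb)
  obtain ⟨y, hy⟩ : ∃ y, y ∈ S.basicOpen (1 * r) := by
    by_contra hcon
    push Not at hcon
    apply hbot
    ext y
    simp only [Opens.coe_bot, Set.mem_empty_iff_false, iff_false]
    exact hcon y
  refine ⟨y, hVO (S.basicOpen_le _ hy), ?_⟩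
  exact Opens.mem_iSup.2 ⟨⟨S.basicOpen (1 * r), hflat, hlfp⟩, hy⟩

end Glue

end Groth.Agent.Lib.Helper55.GR
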