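import Groth.Agent.Lib.Helper55.GR.Main
import Mathlib.RingTheory.RingHom.FinitePresentation
import Mathlib.RingTheory.RingHom.Flat
import Mathlib.RingTheory.Flat.Basic

set_option autoImplicit false
set_option linter.style.haveILetI false
universe u

open TensorProduct

namespace Groth.Agent.Lib.Helper55.GR

open Groth.Agent.Lib.Helper55.GF
open MvPolynomial

section FPAlg

variable {R : Type u} [CommRing R]

theorem finitePresentation_tensor_of_torsion {P S : Type u} [CommRing P] [CommRing S]
    [Algebra R P] [Algebra R S] [Algebra.FinitePresentation R P] (φ : P →ₐ[R] S)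
    (hφ : Function.Surjective φ) (s : Finset P) (hs : (↑s : Set P) ⊆ RingHom.ker φ) (f : R)
    (hT : ∀ y ∈ RingHom.ker φ, ∃ n : ℕ, f ^ n • y ∈ Ideal.span (s : Set P)) :
    Algebra.FinitePresentation (Localization.Away f) (Localization.Away f ⊗[R] S) := by
  classical
  let B := Localization.Away f
  let g : B ⊗[R] P →ₐ[B] B ⊗[R] S := Algebra.TensorProduct.map (AlgHom.id B B) φ
  have hgsurj : Function.Surjective g := by
    intro x
    induction x using TensorProduct.induction_on with
    | zero => exact ⟨0, map_zero _⟩
    | tmul b t =>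
      obtain ⟨p, rfl⟩ := hφ t
      exact ⟨b ⊗ₜ p, Algebra.TensorProduct.map_tmul _ _ _ _⟩
    | add x y hx hy =>
      obtain ⟨x', rfl⟩ := hx
      obtain ⟨y', rfl⟩ := hy
      exact ⟨x' + y', map_add _ _ _⟩
  have hker_eq : RingHom.ker g = Ideal.map Algebra.TensorProduct.includeRight (RingHom.ker φ) :=
    Algebra.TensorProduct.lTensor_ker φ hφ
  let incl : P →ₐ[R] B ⊗[R] P := Algebra.TensorProduct.includeRight
  have hker2 : Ideal.map incl (RingHom.ker φ) = Ideal.span (incl '' (s : Set P)) := by
    apply le_antisymm
    · rw [Ideal.map_le_iff_le_comap]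
      intro y hy
      obtain ⟨n, hn⟩ := hT y hy
      rw [Ideal.mem_comap]
      have h1 : incl (f ^ n • y) ∈ Ideal.span (incl '' (s : Set P)) := by
        rw [← Ideal.map_span]
        exact Ideal.mem_map_of_mem _ hn
      have e : f ^ n • incl y = algebraMap R (B ⊗[R] P) (f ^ n) * incl y := by
        rw [Algebra.algebraMap_eq_smul_one, smul_mul_assoc, one_mul]
      rw [map_smul, e] at h1
      have hu : IsUnit (algebraMap R (B ⊗[R] P) (f ^ n)) := by
        rw [IsScalarTower.algebraMap_apply R B (B ⊗[R] P), map_pow]
        exact ((IsLocalization.Away.algebraMap_isUnit f).pow n).map _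
      exact (Ideal.unit_mul_mem_iff_mem _ hu).1 h1
    · rw [Ideal.span_le]
      rintro _ ⟨y, hy, rfl⟩
      exact Ideal.mem_map_of_mem _ (hs hy)
  have hfg : (RingHom.ker g.toRingHom).FG := by
    have : RingHom.ker g.toRingHom = Ideal.span (incl '' (s : Set P)) := hker_eq.trans hker2
    rw [this]
    exact ⟨s.image incl, by rw [Finset.coe_image]⟩
  exact Algebra.FinitePresentation.of_surjective hgsurj hfg

theorem fp_of_tensor {S : Type u} [CommRing S] [Algebra R S] (f : R) (Rf Sf : Type u)
    [CommRing Rf] [CommRing Sf] [Algebra R Rf] [IsLocalization.Away f Rf] [Algebra S Sf]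
    [IsLocalization.Away (algebraMap R S f) Sf] [Algebra Rf Sf] [Algebra R Sf]
    [IsScalarTower R S Sf] [IsScalarTower R Rf Sf]
    (hfp : Algebra.FinitePresentation Rf (Rf ⊗[R] S)) : Algebra.FinitePresentation Rf Sf := by
  classical
  letI : Algebra S (Rf ⊗[R] S) := Algebra.TensorProduct.rightAlgebra
  haveI hloc1 : IsLocalization (Algebra.algebraMapSubmonoid S (Submonoid.powers f))
      (Rf ⊗[R] S) := IsLocalization.tensorRight Rf (Submonoid.powers f)
  have hpow : Algebra.algebraMapSubmonoid S (Submonoid.powers f) =
      Submonoid.powers (algebraMap R S f) := Submonoid.map_powers (algebraMap R S) f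
  haveI hloc2 : IsLocalization (Submonoid.powers (algebraMap R S f)) (Rf ⊗[R] S) := by
    rw [← hpow]; exact hloc1
  let e : (Rf ⊗[R] S) ≃ₐ[S] Sf :=
    IsLocalization.algEquiv (Submonoid.powers (algebraMap R S f)) _ _
  have hcomm : ∀ r : Rf, e (algebraMap Rf (Rf ⊗[R] S) r) = algebraMap Rf Sf r := by
    intro r
    have h2 : (e.toAlgHom.toRingHom.comp (algebraMap Rf (Rf ⊗[R] S))) =
        algebraMap Rf Sf := by
      apply IsLocalization.ringHom_ext (Submonoid.powers f)
      ext x
      simp only [RingHom.coe_comp, Function.comp_apply]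
      rw [← IsScalarTower.algebraMap_apply R Rf Sf, IsScalarTower.algebraMap_apply R S Sf]
      rw [← IsScalarTower.algebraMap_apply R Rf (Rf ⊗[R] S)]
      have h3 : algebraMap R (Rf ⊗[R] S) x =
          algebraMap S (Rf ⊗[R] S) (algebraMap R S x) := by
        rw [Algebra.TensorProduct.algebraMap_apply, Algebra.TensorProduct.right_algebraMap_apply]
        rw [Algebra.algebraMap_eq_smul_one, Algebra.algebraMap_eq_smul_one (A := S),
          TensorProduct.smul_tmul]
      rw [h3]
      exact e.commutes _
    exact congrArg (fun φ : Rf →+* Sf => φ r) h2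
  let e' : (Rf ⊗[R] S) ≃ₐ[Rf] Sf := { e.toRingEquiv with commutes' := hcomm }
  exact Algebra.FinitePresentation.equiv e'

theorem awayMap_finitePresentation {S : Type u} [CommRing S] [Algebra R S] (f : R)
    (hfp : Algebra.FinitePresentation (Localization.Away f) (Localization.Away f ⊗[R] S)) :
    (Localization.awayMap (algebraMap R S) f).FinitePresentation := by
  letI : Algebra (Localization.Away f) (Localization.Away (algebraMap R S f)) :=
    (Localization.awayMap (algebraMap R S) f).toAlgebra
  haveI : IsScalarTower R (Localization.Away f) (Localization.Away (algebraMap R S f)) := by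
    apply IsScalarTower.of_algebraMap_eq
    intro x
    rw [RingHom.algebraMap_toAlgebra]
    show _ = IsLocalization.Away.map _ _ (algebraMap R S) f (algebraMap R (Localization.Away f) x)
    rw [IsLocalization.Away.map, IsLocalization.map_eq,
      ← IsScalarTower.algebraMap_apply R S (Localization.Away (algebraMap R S f))]
  exact fp_of_tensor f (Localization.Away f) (Localization.Away (algebraMap R S f)) hfp

theorem awayMap_flat {S : Type u} [CommRing S] [Algebra R S] (f : R)
    (hfree : Module.Free (Localization.Away f) (LocalizedModule (Submonoid.powers f) S)) :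
    (Localization.awayMap (algebraMap R S) f).Flat := by
  letI : Algebra (Localization.Away f) (Localization.Away (algebraMap R S f)) :=
    (Localization.awayMap (algebraMap R S) f).toAlgebra
  haveI : IsScalarTower R (Localization.Away f) (Localization.Away (algebraMap R S f)) := by
    apply IsScalarTower.of_algebraMap_eq
    intro x
    rw [RingHom.algebraMap_toAlgebra]
    show _ = IsLocalization.Away.map _ _ (algebraMap R S) f (algebraMap R (Localization.Away f) x)
    rw [IsLocalization.Away.map, IsLocalization.map_eq,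
      ← IsScalarTower.algebraMap_apply R S (Localization.Away (algebraMap R S f))]
  have hpow : Algebra.algebraMapSubmonoid S (Submonoid.powers f) =
      Submonoid.powers (algebraMap R S f) := Submonoid.map_powers (algebraMap R S) f
  haveI hloc : IsLocalization (Algebra.algebraMapSubmonoid S (Submonoid.powers f))
      (Localization.Away (algebraMap R S f)) := by
    rw [hpow]; infer_instance
  haveI : IsLocalizedModule (Submonoid.powers f)
      (IsScalarTower.toAlgHom R S (Localization.Away (algebraMap R S f))).toLinearMap :=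
    (isLocalizedModule_iff_isLocalization).2 hloc
  let e : LocalizedModule (Submonoid.powers f) S ≃ₗ[R] Localization.Away (algebraMap R S f) :=
    IsLocalizedModule.iso (Submonoid.powers f)
      (IsScalarTower.toAlgHom R S (Localization.Away (algebraMap R S f))).toLinearMap
  let e' : LocalizedModule (Submonoid.powers f) S ≃ₗ[Localization.Away f]
      Localization.Away (algebraMap R S f) :=
    e.extendScalarsOfIsLocalization (Submonoid.powers f) (Localization.Away f)
  haveI : Module.Free (Localization.Away f) (Localization.Away (algebraMap R S f)) :=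
    Module.Free.of_equiv e'
  show Module.Flat (Localization.Away f) (Localization.Away (algebraMap R S f))
  infer_instance

end FPAlg

section MainThm

variable (R S : Type u) [CommRing R] [IsReduced R] [CommRing S] [Algebra R S]
  [Algebra.FiniteType R S] (M : Type u) [AddCommGroup M] [Module S M] [Module R M]
  [IsScalarTower R S M] [Module.Finite S M]

theorem generic_freeness_reduced (h : R) (hh : h ≠ 0) : ∃ f : R, h * f ≠ 0 ∧
    Module.Free (Localization.Away (h * f)) (LocalizedModule (Submonoid.powers (h * f)) M) ∧
    Module.Free (Localization.Away (h * f)) (LocalizedModule (Submonoid.powers (h * f)) S) ∧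
    (Localization.awayMap (algebraMap R S) (h * f)).FinitePresentation ∧
    Module.FinitePresentation (Localization.Away (algebraMap R S (h * f)))
      (LocalizedModule (Submonoid.powers (algebraMap R S (h * f))) M) := by
  classical
  obtain ⟨n, φ, hφ⟩ := Algebra.FiniteType.iff_quotient_mvPolynomial''.1
    (inferInstance : Algebra.FiniteType R S)
  have hS : CycGood R S := cycGood_of_surjective φ hφ
  obtain ⟨f₀, hne0, -, G, hGK, hG⟩ :=
    exists_good_cyclic (MonomialOrder.lex (σ := Fin n)) (RingHom.ker φ) h hh
  have hone : Submodule.span S (Set.range (fun _ : Fin 1 => (1 : S))) = ⊤ := by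
    rw [Set.range_const, ← Ideal.span, Ideal.span_singleton_one]
  obtain ⟨f₁, hne1, hfreeS, -⟩ := good_of_cycGood hS 1 S (fun _ => 1) hone (h * f₀) hne0
  obtain ⟨r, x, hx⟩ := Module.Finite.exists_fin (R := S) (M := M)
  obtain ⟨f₂, hne2, hfreeM, hfpM⟩ := good_of_cycGood hS r M x hx (h * f₀ * f₁) hne1
  have e : h * (f₀ * f₁ * f₂) = h * f₀ * f₁ * f₂ := by ring
  refine ⟨f₀ * f₁ * f₂, by rwa [e], ?_, ?_, ?_, ?_⟩
  · rw [e]; exact hfreeM.free_localizedModule
  · rw [e]; exact (hfreeS.mul_right f₂).free_localizedModule
  · rw [e]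
    apply awayMap_finitePresentation
    refine finitePresentation_tensor_of_torsion φ hφ G hGK _ fun y hy => ?_
    obtain ⟨k, hk⟩ := hG y hy
    refine ⟨k, ?_⟩
    have : h * f₀ * f₁ * f₂ = h * f₀ * (f₁ * f₂) := by ring
    rw [this, mul_pow, mul_comm, mul_smul]
    exact Submodule.smul_of_tower_mem _ _ hk
  · rw [e]; exact hfpM.fp_localizedModule

theorem generic_freeness_reduced' (h : R) (hh : h ≠ 0) : ∃ f : R, h * f ≠ 0 ∧ ∀ g' : R,
    Module.Free (Localization.Away (h * f * g'))
      (LocalizedModule (Submonoid.powers (h * f * g')) M) ∧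
    Module.Free (Localization.Away (h * f * g'))
      (LocalizedModule (Submonoid.powers (h * f * g')) S) ∧
    (Localization.awayMap (algebraMap R S) (h * f * g')).FinitePresentation ∧
    Module.FinitePresentation (Localization.Away (algebraMap R S (h * f * g')))
      (LocalizedModule (Submonoid.powers (algebraMap R S (h * f * g'))) M) := by
  classical
  obtain ⟨n, φ, hφ⟩ := Algebra.FiniteType.iff_quotient_mvPolynomial''.1
    (inferInstance : Algebra.FiniteType R S)
  have hS : CycGood R S := cycGood_of_surjective φ hφ
  obtain ⟨f₀, hne0, -, G, hGK, hG⟩ :=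
    exists_good_cyclic (MonomialOrder.lex (σ := Fin n)) (RingHom.ker φ) h hh
  have hone : Submodule.span S (Set.range (fun _ : Fin 1 => (1 : S))) = ⊤ := by
    rw [Set.range_const, ← Ideal.span, Ideal.span_singleton_one]
  obtain ⟨f₁, hne1, hfreeS, -⟩ := good_of_cycGood hS 1 S (fun _ => 1) hone (h * f₀) hne0
  obtain ⟨r, x, hx⟩ := Module.Finite.exists_fin (R := S) (M := M)
  obtain ⟨f₂, hne2, hfreeM, hfpM⟩ := good_of_cycGood hS r M x hx (h * f₀ * f₁) hne1
  have e : h * (f₀ * f₁ * f₂) = h * f₀ * f₁ * f₂ := by ring
  refine ⟨f₀ * f₁ * f₂, by rwa [e], fun g' => ?_⟩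
  rw [e]
  refine ⟨?_, ?_, ?_, ?_⟩
  · exact (hfreeM.mul_right g').free_localizedModule
  · have : h * f₀ * f₁ * f₂ * g' = h * f₀ * f₁ * (f₂ * g') := by ring
    rw [this]
    exact (hfreeS.mul_right _).free_localizedModule
  · apply awayMap_finitePresentation
    refine finitePresentation_tensor_of_torsion φ hφ G hGK _ fun y hy => ?_
    obtain ⟨k, hk⟩ := hG y hy
    refine ⟨k, ?_⟩
    have : h * f₀ * f₁ * f₂ * g' = h * f₀ * (f₁ * f₂ * g') := by ring
    rw [this, mul_pow, mul_comm, mul_smul]
    exact Submodule.smul_of_tower_mem _ _ hk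
  · rw [map_mul]
    exact (hfpM.mul_right _).fp_localizedModule

end MainThm

section AlgOnly

variable (R A : Type u) [CommRing R] [IsReduced R] [CommRing A] [Algebra R A]
  [Algebra.FiniteType R A]

theorem exists_flat_fp_awayMap (h : R) (hh : h ≠ 0) : ∃ f : R, h * f ≠ 0 ∧ ∀ g' : R,
    (Localization.awayMap (algebraMap R A) (h * f * g')).Flat ∧
      (Localization.awayMap (algebraMap R A) (h * f * g')).FinitePresentation := by
  obtain ⟨f, hne, hf⟩ := generic_freeness_reduced' R A A h hh
  exact ⟨f, hne, fun g' => ⟨awayMap_flat _ (hf g').2.1, (hf g').2.2.1⟩⟩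

end AlgOnly

end Groth.Agent.Lib.Helper55.GR
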