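import Groth.Agent.Lib.Helper55.GF.FreeAway
import Mathlib.RingTheory.Localization.Module
import Mathlib.RingTheory.Localization.Away.Basic
import Mathlib.Algebra.Module.LocalizedModule.Away
import Mathlib.Algebra.Module.LocalizedModule.IsLocalization
import Mathlib.LinearAlgebra.FreeModule.Basic
import Mathlib.Algebra.Module.FinitePresentation
import Mathlib.Algebra.Module.Projective
import Mathlib.Algebra.Exact.Basic
import Mathlib.LinearAlgebra.Basis.Prod
import Mathlib.RingTheory.Finiteness.Prod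

set_option autoImplicit false
universe u

namespace Groth.Agent.Lib.Helper55.GR

open Groth.Agent.Lib.Helper55.GF

section IsoAway

variable {A : Type u} [CommRing A] {N M : Type u} [AddCommGroup N] [Module A N]
  [AddCommGroup M] [Module A M]

theorem map_bijective_of_isoAway (a : A) (φ : N →ₗ[A] M)
    (hker : ∀ x : N, φ x = 0 → ∃ k : ℕ, a ^ k • x = 0)
    (hcoker : ∀ y : M, ∃ k : ℕ, a ^ k • y ∈ LinearMap.range φ) :
    Function.Bijective (LocalizedModule.map (Submonoid.powers a) φ) := by
  constructor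
  · rw [injective_iff_map_eq_zero]
    intro z hz
    induction z using LocalizedModule.induction_on with
    | h m t =>
      rw [LocalizedModule.map_mk, ← LocalizedModule.zero_mk t, LocalizedModule.mk_eq] at hz
      obtain ⟨u, hu⟩ := hz
      rw [smul_zero, smul_zero] at hu
      have hu' : φ (((u : A) * (t : A)) • m) = 0 := by
        rw [map_smul, mul_smul]
        exact hu
      obtain ⟨k, hk⟩ := hker _ hu'
      rw [← LocalizedModule.zero_mk t, LocalizedModule.mk_eq]
      refine ⟨⟨a ^ k, Submonoid.pow_mem _ (Submonoid.mem_powers a) k⟩ * u, ?_⟩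
      rw [smul_zero, smul_zero]
      show ((a ^ k * (u : A)) : A) • ((t : A) • m) = 0
      rw [← mul_smul, mul_assoc]
      rw [← mul_smul] at hk
      exact hk
  · intro z
    induction z using LocalizedModule.induction_on with
    | h y t =>
      obtain ⟨k, x, hx⟩ := hcoker y
      let s : Submonoid.powers a := ⟨a ^ k, Submonoid.pow_mem _ (Submonoid.mem_powers a) k⟩
      refine ⟨LocalizedModule.mk x (s * t), ?_⟩
      rw [LocalizedModule.map_mk, hx]
      exact LocalizedModule.mk_cancel_common_left s t y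

end IsoAway

section FreeAwayT

variable {R : Type u} [CommRing R]

def FreeAwayT (f : R) (M : Type u) [AddCommGroup M] [Module R M] : Prop :=
  ∃ (ι : Type) (v : ι → M),
    (∀ c : ι →₀ R, Finsupp.linearCombination R v c = 0 → ∃ k : ℕ, f ^ k • c = 0) ∧
    (∀ x : M, ∃ k : ℕ, f ^ k • x ∈ Submodule.span R (Set.range v))

variable {M N : Type u} [AddCommGroup M] [Module R M] [AddCommGroup N] [Module R N]

theorem FreeAwayT.mul_right {f : R} (h : FreeAwayT f M) (g : R) : FreeAwayT (f * g) M := by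
  obtain ⟨ι, v, h1, h2⟩ := h
  refine ⟨ι, v, fun c hc => ?_, fun x => ?_⟩
  · obtain ⟨k, hk⟩ := h1 c hc
    exact ⟨k, by rw [mul_pow, mul_comm, mul_smul, hk, smul_zero]⟩
  · obtain ⟨k, hk⟩ := h2 x
    exact ⟨k, by rw [mul_pow, mul_comm, mul_smul]; exact Submodule.smul_mem _ _ hk⟩

theorem FreeAwayT.of_dvd {f f' : R} (h : FreeAwayT f M) (hd : f ∣ f') : FreeAwayT f' M := by
  obtain ⟨g, rfl⟩ := hd
  exact h.mul_right g

theorem FreeAwayT.of_subsingleton (f : R) [Subsingleton M] : FreeAwayT f M :=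
  ⟨PEmpty, fun e => e.elim, fun c _ => ⟨0, by ext e; exact e.elim⟩,
    fun x => ⟨0, by rw [Subsingleton.elim (f ^ 0 • x) 0]; exact Submodule.zero_mem _⟩⟩

theorem FreeAwayT.of_isoAway {f : R} (h : FreeAwayT f M) (ψ : M →ₗ[R] N)
    (hker : ∀ x : M, ψ x = 0 → ∃ k : ℕ, f ^ k • x = 0)
    (hcoker : ∀ y : N, ∃ k : ℕ, f ^ k • y ∈ LinearMap.range ψ) : FreeAwayT f N := by
  obtain ⟨ι, v, h1, h2⟩ := h
  refine ⟨ι, ψ ∘ v, fun c hc => ?_, fun y => ?_⟩
  · rw [← Finsupp.apply_linearCombination] at hc
    obtain ⟨k, hk⟩ := hker _ hc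
    rw [← map_smul] at hk
    obtain ⟨l, hl⟩ := h1 _ hk
    exact ⟨l + k, by rw [pow_add, mul_smul]; exact hl⟩
  · obtain ⟨k, x, hx⟩ := hcoker y
    obtain ⟨l, hl⟩ := h2 x
    refine ⟨l + k, ?_⟩
    rw [pow_add, mul_smul, ← hx, ← map_smul, Set.range_comp, ← Submodule.map_span]
    exact ⟨_, hl, rfl⟩

theorem FreeAwayT.of_equiv {f : R} (h : FreeAwayT f M) (e : M ≃ₗ[R] N) : FreeAwayT f N :=
  h.of_isoAway e.toLinearMap
    (fun x hx => ⟨0, by rw [pow_zero, one_smul]; exact e.injective (hx.trans (map_zero e).symm)⟩)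
    (fun y => ⟨0, by rw [pow_zero, one_smul]; exact ⟨e.symm y, e.apply_symm_apply y⟩⟩)

theorem FreeAwayT.ext {M' M'' : Type u} [AddCommGroup M'] [Module R M'] [AddCommGroup M'']
    [Module R M''] {f : R} (j : M' →ₗ[R] M) (p : M →ₗ[R] M'') (hj : Function.Injective j)
    (hp : Function.Surjective p) (hex : Function.Exact j p)
    (h' : FreeAwayT f M') (h'' : FreeAwayT f M'') : FreeAwayT f M := by
  classical
  obtain ⟨ι', v', h1', h2'⟩ := h'
  obtain ⟨ι'', v'', h1'', h2''⟩ := h''
  set σ := Function.surjInv hp with hσ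
  have hσp : ∀ y, p (σ y) = y := Function.surjInv_eq hp
  have hpj : ∀ x, p (j x) = 0 := fun x => hex.apply_apply_eq_zero x
  have hlc : ∀ (c₁ : ι' →₀ R) (c₂ : ι'' →₀ R),
      Finsupp.linearCombination R (Sum.elim (j ∘ v') (σ ∘ v'')) (c₁.sumElim c₂) =
        j (Finsupp.linearCombination R v' c₁) + Finsupp.linearCombination R (σ ∘ v'') c₂ := by
    intro c₁ c₂
    rw [Finsupp.linearCombination_apply, Finsupp.sum_sumElim, Finsupp.linearCombination_apply,
      Finsupp.linearCombination_apply, map_finsuppSum]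
    simp [Function.comp_def]
  have hpσ : ∀ c₂ : ι'' →₀ R, p (Finsupp.linearCombination R (σ ∘ v'') c₂) =
      Finsupp.linearCombination R v'' c₂ := by
    intro c₂
    rw [Finsupp.linearCombination_apply, Finsupp.linearCombination_apply, map_finsuppSum]
    simp [hσp]
  refine ⟨ι' ⊕ ι'', Sum.elim (j ∘ v') (σ ∘ v''), fun c hc => ?_, fun x => ?_⟩
  · rw [← Finsupp.comapDomain_sumElim_comapDomain c] at hc ⊢
    set c₁ := Finsupp.comapDomain Sum.inl c Sum.inl_injective.injOn
    set c₂ := Finsupp.comapDomain Sum.inr c Sum.inr_injective.injOn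
    rw [hlc] at hc
    have h2 : Finsupp.linearCombination R v'' c₂ = 0 := by
      have := congrArg p hc
      rwa [map_add, hpj, zero_add, hpσ, map_zero] at this
    obtain ⟨k₂, hk₂⟩ := h1'' c₂ h2
    have h3 : j (Finsupp.linearCombination R v' (f ^ k₂ • c₁)) = 0 := by
      have := congrArg (fun z => f ^ k₂ • z) hc
      simp only [smul_add, smul_zero] at this
      rw [← map_smul, ← map_smul, ← map_smul, hk₂, map_zero, add_zero] at this
      exact this
    obtain ⟨k₁, hk₁⟩ := h1' _ (hj (h3.trans (map_zero j).symm))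
    refine ⟨k₁ + k₂, ?_⟩
    ext i
    rcases i with i | i
    · have := DFunLike.congr_fun hk₁ i
      simp only [Finsupp.smul_apply, smul_eq_mul, Finsupp.coe_zero, Pi.zero_apply] at this
      simp only [Finsupp.smul_apply, smul_eq_mul, Finsupp.coe_zero, Pi.zero_apply,
        Finsupp.sumElim_inl]
      rw [pow_add, mul_assoc]
      exact this
    · have := DFunLike.congr_fun hk₂ i
      simp only [Finsupp.smul_apply, smul_eq_mul, Finsupp.coe_zero, Pi.zero_apply] at this
      simp only [Finsupp.smul_apply, smul_eq_mul, Finsupp.coe_zero, Pi.zero_apply,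
        Finsupp.sumElim_inr]
      rw [pow_add, mul_assoc, this, mul_zero]
  · obtain ⟨k, hk⟩ := h2'' (p x)
    obtain ⟨c₂, hc₂⟩ := (Finsupp.mem_span_range_iff_exists_finsupp).1 hk
    have hker : p (f ^ k • x - Finsupp.linearCombination R (σ ∘ v'') c₂) = 0 := by
      rw [map_sub, map_smul, hpσ, Finsupp.linearCombination_apply, hc₂, sub_self]
    obtain ⟨y, hy⟩ := (hex _).1 hker
    obtain ⟨l, hl⟩ := h2' y
    refine ⟨l + k, ?_⟩
    have hS1 : Submodule.span R (Set.range (j ∘ v')) ≤
        Submodule.span R (Set.range (Sum.elim (j ∘ v') (σ ∘ v''))) := by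
      apply Submodule.span_mono
      rintro _ ⟨i, rfl⟩
      exact ⟨Sum.inl i, rfl⟩
    have hS2 : Submodule.span R (Set.range (σ ∘ v'')) ≤
        Submodule.span R (Set.range (Sum.elim (j ∘ v') (σ ∘ v''))) := by
      apply Submodule.span_mono
      rintro _ ⟨i, rfl⟩
      exact ⟨Sum.inr i, rfl⟩
    have e : f ^ (l + k) • x = j (f ^ l • y) +
        f ^ l • Finsupp.linearCombination R (σ ∘ v'') c₂ := by
      rw [map_smul, hy, smul_sub, sub_add_cancel, pow_add, mul_smul]
    rw [e]
    refine Submodule.add_mem _ (hS1 ?_) (hS2 (Submodule.smul_mem _ _ ?_))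
    · rw [Set.range_comp, ← Submodule.map_span]
      exact ⟨_, hl, rfl⟩
    · rw [← Finsupp.range_linearCombination]
      exact ⟨c₂, rfl⟩

theorem FreeAwayT.free_localizedModule {f : R} (h : FreeAwayT f M) :
    Module.Free (Localization.Away f) (LocalizedModule (Submonoid.powers f) M) := by
  obtain ⟨ι, v, h1, h2⟩ := h
  let Φ : (ι →₀ R) →ₗ[R] M := Finsupp.linearCombination R v
  have hb := map_bijective_of_isoAway f Φ (fun c hc => h1 c hc) (fun y => by
    obtain ⟨k, hk⟩ := h2 y
    refine ⟨k, ?_⟩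
    rw [← Finsupp.range_linearCombination] at hk
    exact hk)
  let b : Module.Basis ι (Localization.Away f) (LocalizedModule (Submonoid.powers f) (ι →₀ R)) :=
    (Finsupp.basisSingleOne (R := R) (ι := ι)).ofIsLocalizedModule (Localization.Away f)
      (Submonoid.powers f) (LocalizedModule.mkLinearMap (Submonoid.powers f) (ι →₀ R))
  haveI : Module.Free (Localization.Away f) (LocalizedModule (Submonoid.powers f) (ι →₀ R)) :=
    Module.Free.of_basis b
  exact Module.Free.of_equiv (LinearEquiv.ofBijective _ hb)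

end FreeAwayT

section FPAwayE

variable {A : Type u} [CommRing A]

def FPAwayE (a : A) (M : Type u) [AddCommGroup M] [Module A M] : Prop :=
  ∃ (F : Type u) (_ : AddCommGroup F) (_ : Module A F) (_ : Module.Free A F)
    (_ : Module.Finite A F) (π : F →ₗ[A] M) (G : Finset F), Function.Surjective π ∧
      (↑G : Set F) ⊆ LinearMap.ker π ∧ LinearMap.ker π ≤ sat a (Submodule.span A (G : Set F))

variable {M N : Type u} [AddCommGroup M] [Module A M] [AddCommGroup N] [Module A N]

theorem FPAwayE.mul_right {a : A} (h : FPAwayE a M) (b : A) : FPAwayE (a * b) M := by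
  obtain ⟨F, i1, i2, i3, i4, π, G, h1, h2, h3⟩ := h
  exact ⟨F, i1, i2, i3, i4, π, G, h1, h2, h3.trans (sat_le_sat_mul a b _)⟩

theorem FPAwayE.of_dvd {a a' : A} (h : FPAwayE a M) (hd : a ∣ a') : FPAwayE a' M := by
  obtain ⟨b, rfl⟩ := hd
  exact h.mul_right b

theorem FPAwayE.of_subsingleton (a : A) [Subsingleton M] : FPAwayE a M := by
  refine ⟨PUnit, inferInstance, inferInstance, inferInstance, inferInstance, 0, ∅,
    fun m => ⟨0, Subsingleton.elim _ _⟩, by simp, fun x _ => ?_⟩
  rw [Subsingleton.elim x 0]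
  exact Submodule.zero_mem _

theorem FPAwayE.of_equiv {a : A} (h : FPAwayE a M) (e : M ≃ₗ[A] N) : FPAwayE a N := by
  obtain ⟨F, i1, i2, i3, i4, π, G, h1, h2, h3⟩ := h
  refine ⟨F, i1, i2, i3, i4, e.toLinearMap ∘ₗ π, G, e.surjective.comp h1, ?_, ?_⟩
  · rw [LinearEquiv.ker_comp]; exact h2
  · rw [LinearEquiv.ker_comp]; exact h3

theorem FPAwayE.ext {M' M'' : Type u} [AddCommGroup M'] [Module A M'] [AddCommGroup M'']
    [Module A M''] {a : A} (j : M' →ₗ[A] M) (p : M →ₗ[A] M'') (hj : Function.Injective j)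
    (hp : Function.Surjective p) (hex : Function.Exact j p)
    (h' : FPAwayE a M') (h'' : FPAwayE a M'') : FPAwayE a M := by
  classical
  obtain ⟨F', _, _, _, _, π', G', hs', hG', hk'⟩ := h'
  obtain ⟨F'', _, _, _, _, π'', G'', hs'', hG'', hk''⟩ := h''
  obtain ⟨lam, hlam⟩ := Module.projective_lifting_property p π'' hp
  have hlam' : ∀ y, p (lam y) = π'' y := fun y => LinearMap.congr_fun hlam y
  have hpj : ∀ x, p (j x) = 0 := fun x => hex.apply_apply_eq_zero x
  have hu : ∀ g : F'', g ∈ LinearMap.ker π'' → ∃ u : F', j (π' u) = lam g := by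
    intro g hg
    have : p (lam g) = 0 := by rw [hlam']; exact hg
    obtain ⟨m', hm'⟩ := (hex _).1 this
    obtain ⟨u, rfl⟩ := hs' m'
    exact ⟨u, hm'⟩
  let uf : F'' → F' := fun g => if hg : g ∈ LinearMap.ker π'' then (hu g hg).choose else 0
  have huf : ∀ g ∈ LinearMap.ker π'', j (π' (uf g)) = lam g := by
    intro g hg
    simp only [uf, dif_pos hg]
    exact (hu g hg).choose_spec
  let π : (F' × F'') →ₗ[A] M := (j ∘ₗ π').coprod lam
  have hπ : ∀ x y, π (x, y) = j (π' x) + lam y := fun x y => by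
    simp [π, LinearMap.coprod_apply]
  let G : Finset (F' × F'') := G'.image (fun x => (x, 0)) ∪ G''.image (fun g => (-uf g, g))
  have hGker : (↑G : Set (F' × F'')) ⊆ LinearMap.ker π := by
    intro z hz
    rw [Finset.mem_coe, Finset.mem_union, Finset.mem_image, Finset.mem_image] at hz
    rcases hz with ⟨x, hx, rfl⟩ | ⟨g, hg, rfl⟩
    · have : π' x = 0 := hG' hx
      rw [SetLike.mem_coe, LinearMap.mem_ker, hπ, this, map_zero, map_zero, add_zero]
    · have hg' : g ∈ LinearMap.ker π'' := hG'' hg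
      rw [SetLike.mem_coe, LinearMap.mem_ker, hπ, map_neg, map_neg, huf g hg', neg_add_cancel]
  refine ⟨F' × F'', inferInstance, inferInstance, inferInstance, inferInstance, π, G, ?_, hGker,
    ?_⟩
  · intro m
    obtain ⟨y, hy⟩ := hs'' (p m)
    have : p (m - lam y) = 0 := by rw [map_sub, hlam', hy, sub_self]
    obtain ⟨m', hm'⟩ := (hex _).1 this
    obtain ⟨x, rfl⟩ := hs' m'
    exact ⟨(x, y), by rw [hπ, hm', sub_add_cancel]⟩
  · rintro ⟨x, y⟩ hxy
    rw [LinearMap.mem_ker, hπ] at hxy
    have hy : y ∈ LinearMap.ker π'' := by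
      have := congrArg p hxy
      rwa [map_add, hpj, zero_add, hlam', map_zero] at this
    obtain ⟨k, hk⟩ := hk'' hy
    have hS2 : ∀ z ∈ Submodule.span A (G'' : Set F''), ∃ w : F',
        (w, z) ∈ Submodule.span A (G : Set (F' × F'')) ∧ j (π' w) + lam z = 0 := by
      intro z hz
      induction hz using Submodule.span_induction with
      | mem g hg =>
        refine ⟨-uf g, Submodule.subset_span ?_, ?_⟩
        · rw [Finset.mem_coe, Finset.mem_union]
          exact Or.inr (Finset.mem_image.2 ⟨g, hg, rfl⟩)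
        · rw [map_neg, map_neg, huf g (hG'' hg), neg_add_cancel]
      | zero => exact ⟨0, Submodule.zero_mem _, by simp⟩
      | add z₁ z₂ _ _ h₁ h₂ =>
        obtain ⟨w₁, hw₁, e₁⟩ := h₁
        obtain ⟨w₂, hw₂, e₂⟩ := h₂
        refine ⟨w₁ + w₂, ?_, ?_⟩
        · have : (w₁ + w₂, z₁ + z₂) = (w₁, z₁) + (w₂, z₂) := rfl
          rw [this]
          exact Submodule.add_mem _ hw₁ hw₂
        · rw [map_add, map_add, map_add, add_add_add_comm, e₁, e₂, add_zero]
      | smul c z _ h₁ =>
        obtain ⟨w₁, hw₁, e₁⟩ := h₁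
        refine ⟨c • w₁, ?_, ?_⟩
        · have : (c • w₁, c • z) = c • (w₁, z) := rfl
          rw [this]
          exact Submodule.smul_mem _ _ hw₁
        · rw [map_smul, map_smul, map_smul, ← smul_add, e₁, smul_zero]
    obtain ⟨w, hw, ew⟩ := hS2 _ hk
    have hx' : a ^ k • x - w ∈ LinearMap.ker π' := by
      rw [LinearMap.mem_ker]
      apply hj
      rw [map_zero, map_sub, map_sub, map_smul, map_smul]
      have h1 : a ^ k • j (π' x) + a ^ k • lam y = 0 := by rw [← smul_add, hxy, smul_zero]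
      rw [map_smul] at ew
      have h2 : j (π' w) = -(a ^ k • lam y) := eq_neg_of_add_eq_zero_left ew
      have h3 : a ^ k • j (π' x) = -(a ^ k • lam y) := eq_neg_of_add_eq_zero_left h1
      rw [h2, h3, sub_self]
    obtain ⟨l, hl⟩ := hk' hx'
    refine ⟨l + k, ?_⟩
    have hS1 : ∀ z ∈ Submodule.span A (G' : Set F'),
        (z, (0 : F'')) ∈ Submodule.span A (G : Set (F' × F'')) := by
      intro z hz
      induction hz using Submodule.span_induction with
      | mem g hg =>
        apply Submodule.subset_span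
        rw [Finset.mem_coe, Finset.mem_union]
        exact Or.inl (Finset.mem_image.2 ⟨g, hg, rfl⟩)
      | zero => exact Submodule.zero_mem _
      | add z₁ z₂ _ _ h₁ h₂ =>
        have : (z₁ + z₂, (0 : F'')) = (z₁, 0) + (z₂, 0) := by simp
        rw [this]
        exact Submodule.add_mem _ h₁ h₂
      | smul c z _ h₁ =>
        have : (c • z, (0 : F'')) = c • (z, (0 : F'')) := by simp
        rw [this]
        exact Submodule.smul_mem _ _ h₁
    have e : a ^ (l + k) • ((x, y) : F' × F'') =
        (a ^ l • (a ^ k • x - w), (0 : F'')) + a ^ l • (w, a ^ k • y) := by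
      rw [pow_add, mul_smul]
      ext
      · simp [smul_sub]
      · simp
    rw [e]
    exact Submodule.add_mem _ (hS1 _ hl) (Submodule.smul_mem _ _ hw)

theorem FPAwayE.fp_localizedModule {a : A} (h : FPAwayE a M) :
    Module.FinitePresentation (Localization.Away a) (LocalizedModule (Submonoid.powers a) M) := by
  obtain ⟨F, _, _, _, _, π, G, h1, h2, h3⟩ := h
  let N₀ := F ⧸ Submodule.span A (G : Set F)
  have hle : Submodule.span A (G : Set F) ≤ LinearMap.ker π := Submodule.span_le.2 h2
  let ρ : N₀ →ₗ[A] M := Submodule.liftQ _ π hle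
  haveI : Module.FinitePresentation A N₀ :=
    Module.finitePresentation_of_free_of_surjective (Submodule.mkQ _) (Submodule.mkQ_surjective _)
      (by rw [Submodule.ker_mkQ]; exact ⟨G, rfl⟩)
  have hb := map_bijective_of_isoAway a ρ (fun x hx => by
    obtain ⟨y, rfl⟩ := Submodule.Quotient.mk_surjective _ x
    have hy : y ∈ LinearMap.ker π := hx
    obtain ⟨k, hk⟩ := h3 hy
    refine ⟨k, ?_⟩
    rw [← Submodule.Quotient.mk_smul]
    exact (Submodule.Quotient.mk_eq_zero _).2 hk) (fun y => by
    obtain ⟨x, rfl⟩ := h1 y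
    exact ⟨0, Submodule.Quotient.mk x, by rw [pow_zero, one_smul]; rfl⟩)
  exact Module.FinitePresentation.of_equiv (LinearEquiv.ofBijective _ hb)

end FPAwayE

end Groth.Agent.Lib.Helper55.GR
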