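import Groth.Agent.Lib.Helper55.GR.Defs
import Mathlib.RingTheory.MvPolynomial.MonomialOrder
import Mathlib.RingTheory.MvPolynomial.Ideal
import Mathlib.RingTheory.Polynomial.Basic
import Mathlib.RingTheory.Nilpotent.Basic

set_option autoImplicit false
universe u v

namespace Groth.Agent.Lib.Helper55.GR

open Groth.Agent.Lib.Helper55.GF
open MvPolynomial MonomialOrder
open scoped MonomialOrder

section SatLemmas

variable {R : Type u} [CommRing R] {M : Type u} [AddCommGroup M] [Module R M]

theorem sat_of_dvd_smul {h c : R} (hc : c ∣ h) {N : Submodule R M} {q : M}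
    (hq : c • q ∈ sat h N) : q ∈ sat h N := by
  obtain ⟨u, rfl⟩ := hc
  obtain ⟨k, hk⟩ := hq
  refine ⟨k + 1, ?_⟩
  have : (c * u) ^ (k + 1) • q = u • ((c * u) ^ k • c • q) := by
    simp only [smul_smul]
    congr 1
    ring
  rw [this]
  exact N.smul_mem _ hk

end SatLemmas

section Reduced

variable {R : Type u} [CommRing R] [IsReduced R]

theorem mul_eq_zero_of_pow_mul_eq_zero {h a : R} {k : ℕ} (hk : h ^ k * a = 0) : h * a = 0 := by
  have : (h * a) ^ (k + 1) = 0 := by
    rw [mul_pow, pow_succ, pow_succ, mul_mul_mul_comm, mul_comm (h ^ k * a ^ k), ← mul_assoc,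
      mul_assoc h, mul_comm a, ← mul_assoc, mul_assoc h, hk, mul_zero, zero_mul]
  exact IsReduced.eq_zero _ ⟨k + 1, this⟩

end Reduced

variable {R : Type u} [CommRing R] {σ : Type} (m : MonomialOrder.{0, v} σ)

theorem red_or_lt {q q₂ : MvPolynomial σ R} (hle : m.degree q₂ ≼[m] m.degree q)
    (hc : q₂.coeff (m.degree q) = 0) : q₂ = 0 ∨ m.degree q₂ ≺[m] m.degree q := by
  by_cases h0 : q₂ = 0
  · exact Or.inl h0
  · right
    refine lt_of_le_of_ne hle ?_
    intro he
    have h1 : m.degree q₂ = m.degree q := m.toSyn.injective he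
    have h2 : q₂.coeff (m.degree q₂) ≠ 0 := m.coeff_degree_ne_zero_iff.2 h0
    rw [h1] at h2
    exact h2 hc

theorem red_sub_monomial (q : MvPolynomial σ R) :
    (q - monomial (m.degree q) (m.leadingCoeff q) = 0) ∨
      m.degree (q - monomial (m.degree q) (m.leadingCoeff q)) ≺[m] m.degree q := by
  classical
  apply red_or_lt
  · refine le_trans m.degree_sub_le (sup_le le_rfl ?_)
    exact m.degree_monomial_le _
  · rw [coeff_sub, coeff_monomial, if_pos rfl]
    exact sub_self _

theorem red_by (q g : MvPolynomial σ R) (hK : m.degree g ≤ m.degree q) :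
    (C (m.leadingCoeff g) * q -
        monomial (m.degree q - m.degree g) (m.leadingCoeff q) * g = 0) ∨
      m.degree (C (m.leadingCoeff g) * q -
        monomial (m.degree q - m.degree g) (m.leadingCoeff q) * g) ≺[m] m.degree q := by
  classical
  apply red_or_lt
  · refine le_trans m.degree_sub_le (sup_le ?_ ?_)
    · refine le_trans m.degree_mul_le ?_
      rw [m.degree_C, zero_add]
    · refine le_trans m.degree_mul_le ?_
      rw [map_add]
      have h1 : m.toSyn (m.degree q) =
          m.toSyn (m.degree q - m.degree g) + m.toSyn (m.degree g) := by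
        rw [← map_add, tsub_add_cancel_of_le hK]
      rw [h1]
      exact add_le_add_left (m.degree_monomial_le _) _
  · rw [coeff_sub, coeff_C_mul]
    have h1 := coeff_monomial_mul (m.degree g) (m.degree q - m.degree g) (m.leadingCoeff q) g
    rw [tsub_add_cancel_of_le hK] at h1
    rw [h1]
    show m.leadingCoeff g * m.leadingCoeff q - m.leadingCoeff q * m.leadingCoeff g = 0
    rw [mul_comm, sub_self]

theorem induction_degree (Cp : MvPolynomial σ R → Prop) (h0 : Cp 0)
    (hstep : ∀ q, q ≠ 0 → (∀ q', (q' = 0 ∨ m.degree q' ≺[m] m.degree q) → Cp q') → Cp q) :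
    ∀ q, Cp q := by
  have key : ∀ d : m.syn, ∀ q, m.toSyn (m.degree q) = d → Cp q := by
    intro d
    induction d using WellFoundedLT.induction with
    | ind d ih =>
      intro q hd
      by_cases hq : q = 0
      · rw [hq]; exact h0
      · refine hstep q hq fun q' hq' => ?_
        rcases hq' with rfl | hlt
        · exact h0
        · exact ih _ (hd ▸ hlt) q' rfl
  exact fun q => key _ q rfl

noncomputable def Js (h : R) (J : Ideal (MvPolynomial σ R)) : Submodule R (MvPolynomial σ R) :=
  sat h (J.restrictScalars R)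

theorem mem_Js {h : R} {J : Ideal (MvPolynomial σ R)} {q : MvPolynomial σ R} :
    q ∈ Js h J ↔ ∃ k : ℕ, h ^ k • q ∈ J := Iff.rfl

theorem le_Js (h : R) (J : Ideal (MvPolynomial σ R)) {q : MvPolynomial σ R} (hq : q ∈ J) :
    q ∈ Js h J := ⟨0, by simpa using hq⟩

theorem mul_mem_Js {h : R} {J : Ideal (MvPolynomial σ R)} (p : MvPolynomial σ R)
    {q : MvPolynomial σ R} (hq : q ∈ Js h J) : p * q ∈ Js h J := by
  obtain ⟨k, hk⟩ := hq
  refine ⟨k, ?_⟩
  have hk' : h ^ k • q ∈ J := hk
  show h ^ k • (p * q) ∈ J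
  rw [← mul_smul_comm]
  exact J.mul_mem_left _ hk'

theorem Js_of_smul {h : R} {J : Ideal (MvPolynomial σ R)} {q : MvPolynomial σ R}
    (hq : h • q ∈ Js h J) : q ∈ Js h J :=
  sat_of_dvd_smul dvd_rfl hq

def Std (E : Finset (σ →₀ ℕ)) (L : σ →₀ ℕ) : Prop := ∀ K ∈ E, ¬ K ≤ L

structure GBData (J : Ideal (MvPolynomial σ R)) (h : R) (E : Finset (σ →₀ ℕ))
    (g : (σ →₀ ℕ) → MvPolynomial σ R) : Prop where
  mem : ∀ K ∈ E, g K ∈ J
  deg : ∀ K ∈ E, m.degree (g K) = K
  dvd : ∀ K ∈ E, m.leadingCoeff (g K) ∣ h

def Terminal (J : Ideal (MvPolynomial σ R)) (h : R) (E : Finset (σ →₀ ℕ)) : Prop :=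
  ∀ q ∈ Js h J, q ≠ 0 → Std E (m.degree q) → h * m.leadingCoeff q = 0

variable {m}

theorem GBData.mono {J : Ideal (MvPolynomial σ R)} {h : R} {E : Finset (σ →₀ ℕ)}
    {g : (σ →₀ ℕ) → MvPolynomial σ R} (hgb : GBData m J h E g) (f : R) :
    GBData m J (h * f) E g :=
  ⟨hgb.mem, hgb.deg, fun K hK => Dvd.dvd.mul_right (hgb.dvd K hK) f⟩

theorem span_std {J : Ideal (MvPolynomial σ R)} {h : R} {E : Finset (σ →₀ ℕ)}
    {g : (σ →₀ ℕ) → MvPolynomial σ R} (hgb : GBData m J h E g) :
    ∀ q : MvPolynomial σ R, q ∈ sat h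
      (Submodule.span R ((fun L => monomial L (1 : R)) '' {L | Std E L}) ⊔
        J.restrictScalars R) := by
  classical
  set T := sat h (Submodule.span R ((fun L => monomial L (1 : R)) '' {L | Std E L}) ⊔
        J.restrictScalars R) with hTdef
  have hJT : ∀ q ∈ J, q ∈ T := fun q hq =>
    le_sat h _ (Submodule.mem_sup_right (show q ∈ J.restrictScalars R from hq))
  apply induction_degree m
  · exact Submodule.zero_mem _
  · intro q hq ih
    by_cases hstd : Std E (m.degree q)
    · have h1 := ih _ (red_sub_monomial m q)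
      have h2 : monomial (m.degree q) (m.leadingCoeff q) ∈ T := by
        apply le_sat h _
        apply Submodule.mem_sup_left
        have : monomial (m.degree q) (m.leadingCoeff q) =
            m.leadingCoeff q • monomial (m.degree q) (1 : R) := by
          rw [smul_monomial, smul_eq_mul, mul_one]
        rw [this]
        exact Submodule.smul_mem _ _ (Submodule.subset_span ⟨_, hstd, rfl⟩)
      have := T.add_mem h1 h2
      rwa [sub_add_cancel] at this
    · unfold Std at hstd
      push Not at hstd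
      obtain ⟨K, hKE, hKL⟩ := hstd
      have hdeg := hgb.deg K hKE
      have hKL' : m.degree (g K) ≤ m.degree q := by rw [hdeg]; exact hKL
      have h1 := ih _ (red_by m q (g K) hKL')
      have h2 : monomial (m.degree q - m.degree (g K)) (m.leadingCoeff q) * g K ∈ T :=
        hJT _ (J.mul_mem_left _ (hgb.mem K hKE))
      have h3 := T.add_mem h1 h2
      rw [sub_add_cancel, ← smul_eq_C_mul] at h3
      exact sat_of_dvd_smul (hgb.dvd K hKE) h3

theorem sub_monomial_mem_Js {J : Ideal (MvPolynomial σ R)} {h : R} {q : MvPolynomial σ R}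
    (hq : q ∈ Js h J) (hz : h * m.leadingCoeff q = 0) :
    q - monomial (m.degree q) (m.leadingCoeff q) ∈ Js h J ∧
      h • (q - monomial (m.degree q) (m.leadingCoeff q)) = h • q := by
  have e : h • (q - monomial (m.degree q) (m.leadingCoeff q)) = h • q := by
    rw [smul_sub, smul_monomial, smul_eq_mul, hz, monomial_zero, sub_zero]
  refine ⟨Js_of_smul ?_, e⟩
  rw [e]
  exact (Js h J).smul_mem _ hq

theorem ind_std {J : Ideal (MvPolynomial σ R)} {h : R} {E : Finset (σ →₀ ℕ)}
    (hT : Terminal m J h E) :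
    ∀ q : MvPolynomial σ R, q ∈ Js h J → (∀ d ∈ q.support, Std E d) → h • q = 0 := by
  classical
  apply induction_degree m
  · intro _ _; exact smul_zero _
  · intro q hq ih hqJ hsupp
    have hL : m.degree q ∈ q.support := m.degree_mem_support hq
    have hz := hT q hqJ hq (hsupp _ hL)
    obtain ⟨h1, h2⟩ := sub_monomial_mem_Js hqJ hz
    rw [← h2]
    apply ih _ (red_sub_monomial m q) h1
    intro d hd
    apply hsupp
    rw [mem_support_iff] at hd ⊢
    intro hd0
    apply hd
    rw [coeff_sub, hd0, zero_sub, coeff_monomial]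
    split_ifs with hLd
    · rw [← hLd] at hd0
      have : m.leadingCoeff q = 0 := hd0
      rw [this, neg_zero]
    · exact neg_zero

theorem fg_std {J : Ideal (MvPolynomial σ R)} {h : R} {E : Finset (σ →₀ ℕ)}
    {g : (σ →₀ ℕ) → MvPolynomial σ R} (hgb : GBData m J h E g) (hT : Terminal m J h E) :
    ∀ q : MvPolynomial σ R, q ∈ Js h J → q ∈ Js h (Ideal.span (g '' (E : Set (σ →₀ ℕ)))) := by
  classical
  apply induction_degree m
  · intro _; exact Submodule.zero_mem _
  · intro q hq ih hqJ
    by_cases hstd : Std E (m.degree q)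
    · have hz := hT q hqJ hq hstd
      obtain ⟨h1, h2⟩ := sub_monomial_mem_Js hqJ hz
      have h3 := ih _ (red_sub_monomial m q) h1
      apply Js_of_smul
      rw [← h2]
      exact Submodule.smul_mem _ _ h3
    · unfold Std at hstd
      push Not at hstd
      obtain ⟨K, hKE, hKL⟩ := hstd
      have hdeg := hgb.deg K hKE
      have hKL' : m.degree (g K) ≤ m.degree q := by rw [hdeg]; exact hKL
      have hmem : C (m.leadingCoeff (g K)) * q -
          monomial (m.degree q - m.degree (g K)) (m.leadingCoeff q) * g K ∈ Js h J :=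
        Submodule.sub_mem _ (mul_mem_Js _ hqJ)
          (le_Js h J (J.mul_mem_left _ (hgb.mem K hKE)))
      have h1 := ih _ (red_by m q (g K) hKL') hmem
      have h2 : monomial (m.degree q - m.degree (g K)) (m.leadingCoeff q) * g K ∈
          Js h (Ideal.span (g '' (E : Set (σ →₀ ℕ)))) :=
        le_Js h _ (Ideal.mul_mem_left _ _ (Ideal.subset_span ⟨K, hKE, rfl⟩))
      have h3 := Submodule.add_mem _ h1 h2
      rw [sub_add_cancel, ← smul_eq_C_mul] at h3
      exact sat_of_dvd_smul (hgb.dvd K hKE) h3

section Termination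

variable [IsReduced R] [Finite σ]

noncomputable def monoIdeal (E : Finset (σ →₀ ℕ)) : Ideal (MvPolynomial σ ℤ) :=
  Ideal.span ((fun K => monomial K (1 : ℤ)) '' (E : Set (σ →₀ ℕ)))

variable (m) in
theorem exists_terminal (J : Ideal (MvPolynomial σ R)) :
    ∀ (𝔞 : Ideal (MvPolynomial σ ℤ)) (E : Finset (σ →₀ ℕ))
      (g : (σ →₀ ℕ) → MvPolynomial σ R) (h : R),
      𝔞 = monoIdeal E → h ≠ 0 → GBData m J h E g →
      ∃ (f : R) (E' : Finset (σ →₀ ℕ)) (g' : (σ →₀ ℕ) → MvPolynomial σ R),
        h * f ≠ 0 ∧ GBData m J (h * f) E' g' ∧ Terminal m J (h * f) E' := by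
  classical
  intro 𝔞
  induction 𝔞 using WellFoundedGT.induction with
  | ind 𝔞 ih =>
    intro E g h h𝔞 hh hgb
    by_cases hT : Terminal m J h E
    · exact ⟨1, E, g, by rwa [mul_one], by rwa [mul_one], by rwa [mul_one]⟩
    · unfold Terminal at hT
      push Not at hT
      obtain ⟨q, hqJ, hq0, hstd, hne⟩ := hT
      obtain ⟨k, hk⟩ := hqJ
      have hk' : h ^ k • q ∈ J := hk
      set a := m.leadingCoeff q with ha
      set L := m.degree q with hL
      have hka : h ^ k * a ≠ 0 := fun e => hne (mul_eq_zero_of_pow_mul_eq_zero e)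
      have hcoeff : coeff L (h ^ k • q) = h ^ k * a := by
        rw [coeff_smul, smul_eq_mul]
        rfl
      have hdeg : m.degree (h ^ k • q) = L := by
        apply m.toSyn.injective
        apply le_antisymm
        · exact m.degree_smul_le
        · apply m.le_degree
          rw [mem_support_iff, hcoeff]
          exact hka
      have hlc : m.leadingCoeff (h ^ k • q) = h ^ k * a := by
        show coeff (m.degree (h ^ k • q)) (h ^ k • q) = _
        rw [hdeg, hcoeff]
      have hh'' : h * (h ^ k * a) ≠ 0 := by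
        intro e
        apply hne
        apply mul_eq_zero_of_pow_mul_eq_zero (k := k + 1)
        rw [pow_succ', mul_assoc]
        exact e
      have hLE : L ∉ E := fun hLmem => hstd L hLmem le_rfl
      have hgb'' : GBData m J (h * (h ^ k * a)) (insert L E) (Function.update g L (h ^ k • q)) := by
        refine ⟨fun K hK => ?_, fun K hK => ?_, fun K hK => ?_⟩
        · rcases Finset.mem_insert.1 hK with rfl | hK'
          · rw [Function.update_self]; exact hk'
          · rw [Function.update_of_ne (show K ≠ L from fun e => hLE (e ▸ hK'))]; exact hgb.mem K hK'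
        · rcases Finset.mem_insert.1 hK with rfl | hK'
          · rw [Function.update_self]; exact hdeg
          · rw [Function.update_of_ne (show K ≠ L from fun e => hLE (e ▸ hK'))]; exact hgb.deg K hK'
        · rcases Finset.mem_insert.1 hK with rfl | hK'
          · rw [Function.update_self, hlc]; exact Dvd.intro_left _ rfl
          · rw [Function.update_of_ne (show K ≠ L from fun e => hLE (e ▸ hK'))]
            exact Dvd.dvd.mul_right (hgb.dvd K hK') _
      have hlt : monoIdeal E < monoIdeal (insert L E) := by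
        refine lt_of_le_of_ne (Ideal.span_mono (Set.image_mono (by simp))) fun e => ?_
        have h1 : monomial L (1 : ℤ) ∈ monoIdeal (insert L E) :=
          Ideal.subset_span ⟨L, by simp, rfl⟩
        rw [← e] at h1
        obtain ⟨K, hK, hKL⟩ := mem_ideal_span_monomial_image.1 h1 L (by
          rw [mem_support_iff, coeff_monomial, if_pos rfl]; exact one_ne_zero)
        exact hstd K hK hKL
      obtain ⟨f'', E', g', h1, h2, h3⟩ :=
        ih (monoIdeal (insert L E)) (h𝔞 ▸ hlt) (insert L E) _ _ rfl hh'' hgb''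
      exact ⟨h ^ k * a * f'', E', g', by rwa [← mul_assoc], by rwa [← mul_assoc],
        by rwa [← mul_assoc]⟩

def FGAway (h : R) (J : Ideal (MvPolynomial σ R)) : Prop :=
  ∃ G : Finset (MvPolynomial σ R), (↑G : Set (MvPolynomial σ R)) ⊆ J ∧
    ∀ q ∈ J, ∃ k : ℕ, h ^ k • q ∈ Ideal.span (G : Set (MvPolynomial σ R))

omit [IsReduced R] [Finite σ] in
theorem FGAway.mul_right {h : R} {J : Ideal (MvPolynomial σ R)} (hJ : FGAway h J) (g : R) :
    FGAway (h * g) J := by
  obtain ⟨G, h1, h2⟩ := hJ
  refine ⟨G, h1, fun q hq => ?_⟩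
  obtain ⟨k, hk⟩ := h2 q hq
  refine ⟨k, ?_⟩
  rw [mul_pow, mul_comm, mul_smul]
  exact Submodule.smul_of_tower_mem _ _ hk

variable (m) in
include m in
theorem exists_good_cyclic (J : Ideal (MvPolynomial σ R)) (h : R) (hh : h ≠ 0) :
    ∃ f : R, h * f ≠ 0 ∧ FreeAwayT (h * f) (MvPolynomial σ R ⧸ J) ∧ FGAway (h * f) J := by
  classical
  obtain ⟨f, E, g, hne, hgb, hT⟩ := exists_terminal m J (monoIdeal ∅) ∅ (fun _ => 0) h rfl hh
    ⟨by simp, by simp, by simp⟩
  refine ⟨f, hne, ?_, ?_⟩
  · let ι := {L : σ →₀ ℕ // Std E L}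
    let v₀ : ι → MvPolynomial σ R := fun i => monomial i.1 (1 : R)
    let mk : MvPolynomial σ R →ₗ[R] (MvPolynomial σ R ⧸ J) := (Ideal.Quotient.mkₐ R J).toLinearMap
    have hcoef : ∀ (i₀ : ι) (c : ι →₀ R),
        coeff i₀.1 (Finsupp.linearCombination R v₀ c) = c i₀ := by
      intro i₀ c
      induction c using Finsupp.induction_linear with
      | zero => simp
      | add c₁ c₂ h₁ h₂ => rw [map_add, coeff_add, h₁, h₂, Finsupp.add_apply]
      | single i r =>
        rw [Finsupp.linearCombination_single, coeff_smul, coeff_monomial, Finsupp.single_apply]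
        by_cases hi : i = i₀
        · subst hi; simp
        · rw [if_neg (fun e => hi (Subtype.ext e)), if_neg hi]; simp
    have hsupp : ∀ (c : ι →₀ R) (d : σ →₀ ℕ), ¬ Std E d →
        coeff d (Finsupp.linearCombination R v₀ c) = 0 := by
      intro c d hd
      induction c using Finsupp.induction_linear with
      | zero => simp
      | add c₁ c₂ h₁ h₂ => rw [map_add, coeff_add, h₁, h₂, add_zero]
      | single i r =>
        rw [Finsupp.linearCombination_single, coeff_smul, coeff_monomial]
        rw [if_neg (fun e : i.1 = d => hd (e ▸ i.2)), smul_zero]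
    refine ⟨ι, mk ∘ v₀, fun c hc => ?_, fun x => ?_⟩
    · rw [← Finsupp.apply_linearCombination] at hc
      have hqJ : Finsupp.linearCombination R v₀ c ∈ J := Ideal.Quotient.eq_zero_iff_mem.1 hc
      have h0 := ind_std hT _ (le_Js _ J hqJ) (fun d hd => by
        by_contra hstd
        exact (mem_support_iff.1 hd) (hsupp c d hstd))
      refine ⟨1, ?_⟩
      ext i₀
      have := congrArg (coeff i₀.1) h0
      rw [coeff_smul, hcoef, coeff_zero] at this
      rw [pow_one, Finsupp.smul_apply]
      exact this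
    · obtain ⟨q, rfl⟩ := Ideal.Quotient.mk_surjective x
      obtain ⟨k, hk⟩ := span_std hgb q
      obtain ⟨s, hs, j, hj, hsj⟩ := Submodule.mem_sup.1 hk
      refine ⟨k, ?_⟩
      have hj' : mk j = 0 := Ideal.Quotient.eq_zero_iff_mem.2 hj
      have e : (h * f) ^ k • (Ideal.Quotient.mk J q) = mk s := by
        have : mk ((h * f) ^ k • q) = mk s := by rw [← hsj, map_add, hj', add_zero]
        rw [← this, map_smul]
        rfl
      rw [e]
      have : mk s ∈ Submodule.map mk
          (Submodule.span R ((fun L => monomial L (1 : R)) '' {L | Std E L})) := ⟨s, hs, rfl⟩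
      rw [Submodule.map_span] at this
      refine Submodule.span_mono ?_ this
      rintro _ ⟨_, ⟨L, hL, rfl⟩, rfl⟩
      exact ⟨⟨L, hL⟩, rfl⟩
  · refine ⟨E.image g, ?_, fun q hq => ?_⟩
    · intro x hx
      rw [Finset.coe_image] at hx
      obtain ⟨K, hK, rfl⟩ := hx
      exact hgb.mem K hK
    · obtain ⟨k, hk⟩ := fg_std hgb hT q (le_Js _ J hq)
      refine ⟨k, ?_⟩
      rw [Finset.coe_image]
      exact hk

end Termination

end Groth.Agent.Lib.Helper55.GR
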