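import Groth.Agent.Lib.Helper55.GR.Groebner
import Mathlib.RingTheory.FiniteType
import Mathlib.RingTheory.FiniteStability
import Mathlib.RingTheory.Localization.BaseChange
import Mathlib.RingTheory.Ideal.Quotient.Operations
import Mathlib.Data.Finsupp.MonomialOrder

set_option autoImplicit false
set_option linter.style.haveILetI false
universe u

open TensorProduct

namespace Groth.Agent.Lib.Helper55.GR

open Groth.Agent.Lib.Helper55.GF
open MvPolynomial

def CycGood (R S : Type u) [CommRing R] [CommRing S] [Algebra R S] : Prop :=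
  ∀ (𝔞 : Ideal S) (h : R), h ≠ 0 → ∃ f : R, h * f ≠ 0 ∧ FreeAwayT (h * f) (S ⧸ 𝔞) ∧
    FPAwayE (algebraMap R S (h * f)) (S ⧸ 𝔞)

section Cyc

variable {R : Type u} [CommRing R] [IsReduced R] {S : Type u} [CommRing S] [Algebra R S]

theorem cycGood_of_surjective {n : ℕ} (φ : MvPolynomial (Fin n) R →ₐ[R] S)
    (hφ : Function.Surjective φ) : CycGood R S := by
  classical
  intro 𝔞 h hh
  obtain ⟨f, hne, hfree, G, hGJ, hG⟩ :=
    exists_good_cyclic (MonomialOrder.lex (σ := Fin n)) (𝔞.comap φ) h hh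
  refine ⟨f, hne, ?_, ?_⟩
  · let ψ : (MvPolynomial (Fin n) R ⧸ 𝔞.comap φ) →ₐ[R] (S ⧸ 𝔞) := Ideal.quotientMapₐ 𝔞 φ le_rfl
    have hinj : Function.Injective ψ := Ideal.quotientMap_injective
    have hsurj : Function.Surjective ψ :=
      Ideal.quotientMap_surjective (H := (le_rfl : 𝔞.comap φ ≤ 𝔞.comap (φ : MvPolynomial (Fin n) R →+* S))) hφ
    exact hfree.of_equiv (AlgEquiv.ofBijective ψ ⟨hinj, hsurj⟩).toLinearEquiv
  · refine ⟨S, inferInstance, inferInstance, inferInstance, inferInstance, Submodule.mkQ 𝔞,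
      G.image φ, Submodule.mkQ_surjective _, ?_, ?_⟩
    · rw [Submodule.ker_mkQ, Finset.coe_image]
      rintro _ ⟨g, hg, rfl⟩
      exact hGJ hg
    · rw [Submodule.ker_mkQ]
      intro s hs
      obtain ⟨q, rfl⟩ := hφ s
      obtain ⟨k, hk⟩ := hG q hs
      refine ⟨k, ?_⟩
      have h1 : φ ((h * f) ^ k • q) ∈ Ideal.map φ (Ideal.span (G : Set (MvPolynomial (Fin n) R))) :=
        Ideal.mem_map_of_mem _ hk
      rw [Ideal.map_span] at h1
      rw [Finset.coe_image, smul_eq_mul, ← map_pow, ← Algebra.smul_def, ← map_smul]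
      exact h1

end Cyc

section Chain

variable {R : Type u} [CommRing R] {S : Type u} [CommRing S] [Algebra R S]

theorem good_of_cycGood (hS : CycGood R S) :
    ∀ (r : ℕ) (M : Type u) [AddCommGroup M] [Module S M] [Module R M] [IsScalarTower R S M]
      (x : Fin r → M), Submodule.span S (Set.range x) = ⊤ → ∀ h : R, h ≠ 0 →
      ∃ f : R, h * f ≠ 0 ∧ FreeAwayT (h * f) M ∧ FPAwayE (algebraMap R S (h * f)) M := by
  intro r
  induction r with
  | zero =>
    intro M _ _ _ _ x hx h hh
    have hsub : Subsingleton M := by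
      have : (⊤ : Submodule S M) = ⊥ := by
        rw [← hx, Submodule.span_eq_bot]
        rintro _ ⟨i, -⟩
        exact i.elim0
      exact (Submodule.subsingleton_iff S).1 (subsingleton_of_bot_eq_top this.symm)
    exact ⟨1, by rwa [mul_one], FreeAwayT.of_subsingleton _, FPAwayE.of_subsingleton _⟩
  | succ r ih =>
    intro M _ _ _ _ x hx h hh
    let M' : Submodule S M := Submodule.span S {x 0}
    have hx0 : x 0 ∈ M' := Submodule.subset_span rfl
    let θ : S →ₗ[S] M' := LinearMap.toSpanSingleton S M' ⟨x 0, hx0⟩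
    have hθ : Function.Surjective θ := by
      rintro ⟨y, hy⟩
      obtain ⟨s, rfl⟩ := Submodule.mem_span_singleton.1 hy
      exact ⟨s, Subtype.ext (by simp [θ])⟩
    let 𝔞 : Ideal S := LinearMap.ker θ
    let e : (S ⧸ 𝔞) ≃ₗ[S] M' := θ.quotKerEquivOfSurjective hθ
    obtain ⟨f₁, hne1, hfree1, hfp1⟩ := hS 𝔞 h hh
    have hgen : Submodule.span S (Set.range (fun i : Fin r => M'.mkQ (x i.succ))) = ⊤ := by
      rw [eq_top_iff]
      have h1 : Submodule.map M'.mkQ (Submodule.span S (Set.range x)) = ⊤ := by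
        rw [hx, Submodule.map_top, LinearMap.range_eq_top]
        exact Submodule.mkQ_surjective _
      rw [← h1, Submodule.map_span, Submodule.span_le]
      rintro _ ⟨_, ⟨i, rfl⟩, rfl⟩
      refine Fin.cases ?_ (fun i => ?_) i
      · have : M'.mkQ (x 0) = 0 := (Submodule.Quotient.mk_eq_zero _).2 hx0
        rw [this]
        exact Submodule.zero_mem _
      · exact Submodule.subset_span ⟨i, rfl⟩
    obtain ⟨f₂, hne2, hfree2, hfp2⟩ := ih (M ⧸ M') _ hgen (h * f₁) hne1
    refine ⟨f₁ * f₂, by rwa [← mul_assoc], ?_, ?_⟩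
    · rw [← mul_assoc]
      have hfree1' : FreeAwayT (h * f₁ * f₂) M' :=
        (hfree1.mul_right f₂).of_equiv (e.restrictScalars R)
      exact FreeAwayT.ext (M'.subtype.restrictScalars R) (M'.mkQ.restrictScalars R)
        (Submodule.injective_subtype M') (Submodule.mkQ_surjective M')
        (LinearMap.exact_subtype_mkQ M') hfree1' hfree2
    · rw [← mul_assoc]
      have hfp1' : FPAwayE (algebraMap R S (h * f₁ * f₂)) M' := by
        rw [map_mul]
        exact (hfp1.mul_right _).of_equiv e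
      exact FPAwayE.ext M'.subtype M'.mkQ (Submodule.injective_subtype M')
        (Submodule.mkQ_surjective M') (LinearMap.exact_subtype_mkQ M') hfp1' hfp2

end Chain

end Groth.Agent.Lib.Helper55.GR
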